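import Groth.Agent.DVRDom.Basic
import Groth.Agent.RatMapExt.Sections
import Mathlib.AlgebraicGeometry.ValuativeCriterion
import Mathlib.AlgebraicGeometry.Noetherian
import Mathlib.RingTheory.FiniteType
import Mathlib.RingTheory.Valuation.ValuationSubring

/-! Properness over a neighbourhood of a point via discrete valuation rings, without Chow's lemma.

* `exists_composite`: composite valuation rings.
* `exists_isProper_nhd`: for a separated morphism of finite type to a locally Noetherian scheme, if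
  every DVR of the residue field of a maximal point of `X`, centred at `y`, extends to `X`, then the
  morphism is proper over a neighbourhood of `y`.
-/

set_option autoImplicit false

universe u

namespace Groth.Agent.DVRProper

open AlgebraicGeometry CategoryTheory CategoryTheory.Limits TopologicalSpace IsLocalRing

section Algebra

variable {L : Type u} [Field L]

/-- The composite of a valuation ring with a valuation ring of its residue field. -/
theorem exists_composite (W' : ValuationSubring L) (W₁ : ValuationSubring (ResidueField W')) :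
    ∃ W : ValuationSubring L, ∀ a : L, a ∈ W ↔ ∃ h : a ∈ W', residue W' ⟨a, h⟩ ∈ W₁ := by
  let S : Subring L := (W₁.toSubring.comap (residue W')).map W'.subtype
  have hS : ∀ a : L, a ∈ S ↔ ∃ h : a ∈ W', residue W' ⟨a, h⟩ ∈ W₁ := fun a =>
    ⟨fun ⟨b, hb, hba⟩ => by subst hba; exact ⟨b.2, hb⟩, fun ⟨h, ha⟩ => ⟨⟨a, h⟩, ha, rfl⟩⟩
  refine ⟨{ S with mem_or_inv_mem' := fun a => ?_ }, hS⟩
  show a ∈ S ∨ a⁻¹ ∈ S
  rw [hS, hS]
  rcases eq_or_ne a 0 with rfl | ha0
  · exact Or.inl ⟨zero_mem _, by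
      rw [show (⟨0, zero_mem W'⟩ : W') = 0 from rfl, map_zero]; exact zero_mem W₁⟩
  by_cases ha : a ∈ W'
  · by_cases hu : IsUnit (⟨a, ha⟩ : W')
    · obtain ⟨v, hv⟩ := hu.exists_right_inv
      have hv' : a * (v : L) = 1 := congrArg Subtype.val hv
      have hva : a⁻¹ = (v : L) := inv_eq_of_mul_eq_one_right hv'
      rcases W₁.mem_or_inv_mem (residue W' ⟨a, ha⟩) with h | h
      · exact Or.inl ⟨ha, h⟩
      · refine Or.inr ⟨hva ▸ v.2, ?_⟩
        have : (residue W' ⟨a, ha⟩)⁻¹ = residue W' v := inv_eq_of_mul_eq_one_right (by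
          rw [← map_mul, hv, map_one])
        rw [this] at h
        have e : (⟨a⁻¹, hva ▸ v.2⟩ : W') = v := Subtype.ext hva
        rwa [e]
    · exact Or.inl ⟨ha, by
        rw [(residue_eq_zero_iff _).mpr ((mem_maximalIdeal _).mpr hu)]; exact zero_mem W₁⟩
  · have ha' : a⁻¹ ∈ W' := (W'.mem_or_inv_mem a).resolve_left ha
    refine Or.inr ⟨ha', ?_⟩
    have : ¬ IsUnit (⟨a⁻¹, ha'⟩ : W') := fun hu => by
      obtain ⟨v, hv⟩ := hu.exists_right_inv
      have hv' : a⁻¹ * (v : L) = 1 := congrArg Subtype.val hv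
      rw [inv_mul_eq_one₀ ha0] at hv'
      exact ha (hv' ▸ v.2)
    rw [(residue_eq_zero_iff _).mpr ((mem_maximalIdeal _).mpr this)]
    exact zero_mem W₁

/-- A valuation ring of a field is dominated, in any extension field, by one inducing it. -/
theorem exists_extend {k k' : Type u} [Field k] [Field k'] (j : k →+* k') (V : ValuationSubring k) :
    ∃ W₁ : ValuationSubring k', ∀ a, j a ∈ W₁ ↔ a ∈ V := by
  obtain ⟨W₁, h, hloc⟩ := exists_factor_valuationRing (j.comp V.subtype)
  refine ⟨W₁, fun a => ⟨fun ha => ?_, fun ha => h ⟨a, ha⟩⟩⟩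
  by_contra hna
  have hinv : a⁻¹ ∈ V := (V.mem_or_inv_mem a).resolve_left hna
  have ha0 : a ≠ 0 := fun h0 => hna (h0 ▸ zero_mem V)
  have hu : IsUnit ((j.comp V.subtype).codRestrict W₁.toSubring h ⟨a⁻¹, hinv⟩) := by
    refine IsUnit.of_mul_eq_one (⟨j a, ha⟩ : W₁.toSubring) (Subtype.ext ?_)
    show j a⁻¹ * j a = 1
    rw [← map_mul, inv_mul_cancel₀ ha0, map_one]
  obtain ⟨v, hv⟩ := (hloc.map_nonunit _ hu).exists_right_inv
  have hv' : a⁻¹ * (v : k) = 1 := congrArg Subtype.val hv
  rw [inv_mul_eq_one₀ ha0] at hv'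
  exact hna (hv' ▸ v.2)

/-- A `q`-centred obstruction: if the inverses of `c` do not lie over `p`, some `r ∉ p` has positive
value in every valuation ring omitting all of `c`; otherwise a DVR centred at `p` omits them. -/
theorem exists_notMem_or_dvr {R : Type u} [CommRing R] [IsNoetherianRing R] (p : Ideal R) [p.IsPrime]
    (ρ : R →+* L) (hfg : ∃ G : Finset L,
      ∀ z : L, z ∈ Subfield.closure (Set.range ρ ∪ (G : Set L)))
    {ι : Type*} [Finite ι] [Nonempty ι] (c : ι → L) (hc : ∀ i, c i ≠ 0) :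
    (∃ r ∉ p, ∀ W : ValuationSubring L, (∀ a, ρ a ∈ W) → (∀ i, c i ∉ W) → W.valuation (ρ r) < 1) ∨
      ∃ W : ValuationSubring L, IsDiscreteValuationRing W ∧ (∀ a, ρ a ∈ W) ∧
        (∀ r, W.valuation (ρ r) < 1 ↔ r ∈ p) ∧ ∀ i, c i ∉ W := by
  classical
  letI := ρ.toAlgebra
  let s : Set L := Set.range fun i => (c i)⁻¹
  let C := Algebra.adjoin R s
  have hsC : ∀ i, (c i)⁻¹ ∈ C := fun i => Algebra.subset_adjoin ⟨i, rfl⟩
  let I : Ideal C := Ideal.span (Set.range fun i => (⟨(c i)⁻¹, hsC i⟩ : C))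
  by_cases hle : I.comap (algebraMap R C) ≤ p
  swap
  · obtain ⟨r, hr, hrp⟩ := SetLike.not_le_iff_exists.mp hle
    refine Or.inl ⟨r, hrp, fun W hW hWc => ?_⟩
    have hinv : ∀ i, W.valuation (c i)⁻¹ < 1 := fun i => by
      rw [map_inv₀, inv_lt_one₀ (zero_lt_iff.mpr ((map_ne_zero _).mpr (hc i))), ← not_le,
        W.valuation_le_one_iff]
      exact hWc i
    let Wa : Subalgebra R L := { W.toSubring with algebraMap_mem' := hW }
    have hCW : C ≤ Wa := Algebra.adjoin_le (by
      rintro _ ⟨i, rfl⟩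
      exact (W.valuation_le_one_iff _).mp (hinv i).le)
    let θ : C →+* W := (Subalgebra.inclusion hCW).toRingHom
    have hI : I ≤ (maximalIdeal W).comap θ := by
      rw [Ideal.span_le]
      rintro _ ⟨i, rfl⟩
      exact (W.valuation_lt_one_iff _).mpr (hinv i)
    exact (W.valuation_lt_one_iff _).mp (hI hr)
  right
  -- `C = R + I`
  let π := (Ideal.Quotient.mk I).comp (algebraMap R C)
  have hπ : Function.Surjective π := by
    intro z
    obtain ⟨⟨z, hz⟩, rfl⟩ := Ideal.Quotient.mk_surjective z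
    show Ideal.Quotient.mk I ⟨z, hz⟩ ∈ π.range
    induction hz using Algebra.adjoin_induction with
    | mem x hx =>
      obtain ⟨i, rfl⟩ := hx
      rw [Ideal.Quotient.eq_zero_iff_mem.mpr (Ideal.subset_span ⟨i, rfl⟩ : (⟨(c i)⁻¹, hsC i⟩ : C) ∈ I)]
      exact zero_mem _
    | algebraMap r => exact ⟨r, rfl⟩
    | add x y hx hy hx' hy' => exact add_mem hx' hy'
    | mul x y hx hy hx' hy' => exact mul_mem hx' hy'
  have hker : RingHom.ker π ≤ RingHom.ker (Ideal.Quotient.mk p) := fun r hr =>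
    Ideal.Quotient.eq_zero_iff_mem.mpr
      (hle (Ideal.mem_comap.mpr (Ideal.Quotient.eq_zero_iff_mem.mp (show Ideal.Quotient.mk I (algebraMap R C r) = 0 from hr))))
  let gk : {g : R →+* R ⧸ p // RingHom.ker π ≤ RingHom.ker g} := ⟨Ideal.Quotient.mk p, hker⟩
  let θ : C →+* R ⧸ p := (RingHom.liftOfSurjective π hπ gk).comp (Ideal.Quotient.mk I)
  have hθ : ∀ r, θ (algebraMap R C r) = Ideal.Quotient.mk p r := fun r =>
    RingHom.liftOfRightInverse_comp_apply π _ (Function.rightInverse_surjInv hπ) gk r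
  let Q := RingHom.ker θ
  haveI : Q.IsPrime := RingHom.ker_isPrime θ
  have hQ : ∀ r, algebraMap R C r ∈ Q ↔ r ∈ p := fun r => by
    rw [RingHom.mem_ker, hθ, Ideal.Quotient.eq_zero_iff_mem]
  have hIQ : ∀ i, (⟨(c i)⁻¹, hsC i⟩ : C) ∈ Q := fun i => by
    show RingHom.liftOfSurjective π hπ gk (Ideal.Quotient.mk I _) = 0
    rw [Ideal.Quotient.eq_zero_iff_mem.mpr (Ideal.subset_span ⟨i, rfl⟩ : (⟨(c i)⁻¹, hsC i⟩ : C) ∈ I), map_zero]
  haveI : Algebra.FiniteType R C :=
    (Subalgebra.fg_iff_finiteType C).mp (Subalgebra.fg_def.mpr ⟨s, Set.finite_range _, rfl⟩)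
  haveI : IsNoetherianRing C := Algebra.FiniteType.isNoetherianRing R C
  let D := Localization.AtPrime Q
  haveI : IsDomain D := IsLocalization.isDomain_of_atPrime _ Q
  haveI : IsNoetherianRing D := IsLocalization.isNoetherianRing Q.primeCompl D inferInstance
  let η : D →+* L := IsLocalization.lift (M := Q.primeCompl) (g := C.val.toRingHom) fun y =>
    isUnit_iff_ne_zero.mpr fun h0 => y.2 (by
      rw [show (y : C) = 0 from Subtype.ext h0]; exact Q.zero_mem)
  have hη : ∀ z : C, η (algebraMap C D z) = z := fun z => IsLocalization.lift_eq _ _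
  have hηi : Function.Injective η := by
    rw [injective_iff_map_eq_zero]
    intro z hz
    obtain ⟨⟨a, b⟩, hab⟩ := IsLocalization.surj Q.primeCompl z
    have := congrArg η hab
    rw [map_mul, hz, zero_mul, hη] at this
    rw [show a = 0 from Subtype.ext this.symm, map_zero] at hab
    exact (mul_eq_zero.mp hab).resolve_right (IsLocalization.map_units D b).ne_zero
  letI := η.toAlgebra
  haveI : FaithfulSMul D L := (faithfulSMul_iff_algebraMap_injective D L).mpr hηi
  let K := FractionRing D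
  letI : Algebra K L := (IsFractionRing.lift (A := D) (K := K) hηi).toAlgebra
  haveI : IsScalarTower D K L :=
    IsScalarTower.of_algebraMap_eq fun d => (IsFractionRing.lift_algebraMap hηi d).symm
  have hD : ¬ IsField D := by
    rw [IsLocalRing.isField_iff_maximalIdeal_eq]
    intro h
    obtain ⟨i⟩ := ‹Nonempty ι›
    have : algebraMap C D ⟨(c i)⁻¹, hsC i⟩ ∈ maximalIdeal D :=
      (IsLocalization.AtPrime.to_map_mem_maximal_iff D Q _).mpr (hIQ i)
    rw [h, Ideal.mem_bot] at this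
    have := congrArg η this
    rw [hη, map_zero] at this
    exact inv_ne_zero (hc i) this
  have hfg' : (⊤ : IntermediateField K L).FG := by
    obtain ⟨G, hG⟩ := hfg
    refine ⟨G, eq_top_iff.mpr fun z _ => ?_⟩
    refine (Subfield.closure_le (t := (IntermediateField.adjoin K (G : Set L)).toSubfield)).mpr ?_ (hG z)
    rintro _ (⟨r, rfl⟩ | hg)
    · have : ρ r = algebraMap K L (algebraMap D K (algebraMap C D (algebraMap R C r))) := by
        rw [← IsScalarTower.algebraMap_apply D K L]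
        exact (hη (algebraMap R C r)).symm
      rw [this]
      exact IntermediateField.algebraMap_mem _ _
    · exact IntermediateField.subset_adjoin K _ hg
  obtain ⟨W, hWd, hDW, hmW⟩ := DVRDom.exists_dvr_dominating D hD K L hfg'
  have key : ∀ r, algebraMap D L (algebraMap C D (algebraMap R C r)) = ρ r := fun r => hη _
  refine ⟨W, hWd, fun a => key a ▸ hDW _, fun r => ⟨fun hr => ?_, fun hr => ?_⟩, fun i hi => ?_⟩
  · by_contra hrp
    obtain ⟨v, hv⟩ := (IsLocalization.map_units D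
      (⟨algebraMap R C r, fun h => hrp ((hQ r).mp h)⟩ : Q.primeCompl)).exists_right_inv
    rw [← key] at hr
    have := mul_lt_one_of_lt_of_le hr ((W.valuation_le_one_iff _).mpr (hDW v))
    rw [← map_mul, ← map_mul, hv, map_one, map_one] at this
    exact this.false
  · rw [← key]
    exact hmW _ ((IsLocalization.AtPrime.to_map_mem_maximal_iff D Q _).mpr ((hQ r).mpr hr))
  · have h1 := hmW _ ((IsLocalization.AtPrime.to_map_mem_maximal_iff D Q _).mpr (hIQ i))
    rw [show algebraMap D L (algebraMap C D ⟨(c i)⁻¹, hsC i⟩) = (c i)⁻¹ from hη _] at h1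
    have := mul_lt_one_of_lt_of_le h1 ((W.valuation_le_one_iff _).mpr hi)
    rw [← map_mul, inv_mul_cancel₀ (hc i), map_one] at this
    exact this.false

end Algebra

section Scheme

variable {X Y : Scheme.{u}}

/-- A morphism from a local scheme with closed point in an affine open factors through it. -/
theorem exists_factor {A : Type u} [CommRing A] [IsLocalRing A] (l : Spec (CommRingCat.of A) ⟶ X)
    {U : X.Opens} (hU : IsAffineOpen U) (h : l (closedPoint A) ∈ U) :
    ∃ φ : Γ(X, U) ⟶ CommRingCat.of A, Spec.map φ ≫ hU.fromSpec = l := by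
  refine ⟨Spec.preimage (IsOpenImmersion.lift hU.fromSpec l ?_), ?_⟩
  · rw [hU.range_fromSpec]
    exact RatMapExt.range_subset_of_closedPoint l U h
  · rw [Spec.map_preimage, IsOpenImmersion.lift_fac]

/-- Morphisms from a local domain into a scheme, with closed points in an affine open, agree if they
agree at the generic point. -/
theorem eq_of_generic {A : Type u} [CommRing A] [IsLocalRing A] {K : Type u} [CommRing K]
    (i : A →+* K) (hi : Function.Injective i) (g g' : Spec (CommRingCat.of A) ⟶ X)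
    {U : X.Opens} (hU : IsAffineOpen U) (h : g (closedPoint A) ∈ U) (h' : g' (closedPoint A) ∈ U)
    (e : Spec.map (CommRingCat.ofHom i) ≫ g = Spec.map (CommRingCat.ofHom i) ≫ g') : g = g' := by
  obtain ⟨φ, rfl⟩ := exists_factor g hU h
  obtain ⟨φ', rfl⟩ := exists_factor g' hU h'
  rw [← Spec.map_comp_assoc, ← Spec.map_comp_assoc, cancel_mono, Spec.map_inj] at e
  rw [show φ = φ' from CommRingCat.hom_ext (RingHom.ext fun a => hi (congrArg (fun k => k.hom a) e))]

theorem fromSpecResidueField_eq {U : X.Opens} (hU : IsAffineOpen U) (x : X) (hx : x ∈ U) :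
    X.fromSpecResidueField x = Spec.map (X.evaluation U x hx) ≫ hU.fromSpec := by
  rw [Scheme.evaluation, Spec.map_comp, Category.assoc, Scheme.fromSpecResidueField,
    ← hU.fromSpecStalk_eq_fromSpecStalk hx]
  rfl

theorem eq_of_map_fromSpec {U : X.Opens} (hU : IsAffineOpen U) {A : CommRingCat.{u}}
    {α β : Γ(X, U) ⟶ A} (h : Spec.map α ≫ hU.fromSpec = Spec.map β ≫ hU.fromSpec) : α = β :=
  Spec.map_injective ((cancel_mono hU.fromSpec).mp h)

/-- Every element of the residue field is a quotient of two sections of an affine neighbourhood. -/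
theorem mem_closure_evaluation {U : X.Opens} (hU : IsAffineOpen U) (x : X) (hx : x ∈ U)
    (z : X.residueField x) : z ∈ Subfield.closure (Set.range (X.evaluation U x hx)) := by
  obtain ⟨s, rfl⟩ := X.residue_surjective x z
  letI := X.presheaf.algebra_section_stalk ⟨x, hx⟩
  haveI : IsLocalization.AtPrime (X.presheaf.stalk x) (hU.primeIdealOf ⟨x, hx⟩).asIdeal :=
    hU.isLocalization_stalk ⟨x, hx⟩
  obtain ⟨⟨a, b⟩, hab⟩ := IsLocalization.surj (hU.primeIdealOf ⟨x, hx⟩).asIdeal.primeCompl s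
  have h1 : X.residue x s * X.evaluation U x hx b = X.evaluation U x hx a := by
    show X.residue x s * X.residue x (X.presheaf.germ U x hx b) =
      X.residue x (X.presheaf.germ U x hx a)
    rw [← map_mul]
    exact congrArg (X.residue x) hab
  have hb0 : X.evaluation U x hx b ≠ 0 :=
    ((IsLocalization.map_units (X.presheaf.stalk x) b).map (X.residue x).hom).ne_zero
  rw [eq_div_iff hb0 |>.mpr h1]
  exact div_mem (Subfield.subset_closure ⟨_, rfl⟩) (Subfield.subset_closure ⟨_, rfl⟩)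

variable (f : X ⟶ Y)

/-- Sections of the target evaluated in a residue field of the source. -/
noncomputable abbrev ev (V : Y.Opens) (x : X) (hx : f x ∈ V) : Γ(Y, V) ⟶ X.residueField x :=
  f.app V ≫ X.evaluation (f ⁻¹ᵁ V) x hx

theorem appLE_evaluation (V : Y.Opens) (U : X.Opens) (e : U ≤ f ⁻¹ᵁ V) (x : X) (hx : x ∈ U) :
    f.appLE V U e ≫ X.evaluation U x hx = ev f V x (e hx) := by
  simp [ev, Scheme.Hom.appLE, Scheme.evaluation]

theorem fromSpecResidueField_comp {V : Y.Opens} (hV : IsAffineOpen V) (x : X) (hx : f x ∈ V) :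
    X.fromSpecResidueField x ≫ f = Spec.map (ev f V x hx) ≫ hV.fromSpec := by
  obtain ⟨U, hU, hxU, hUV⟩ := exists_isAffineOpen_mem_and_subset (x := x) (U := f ⁻¹ᵁ V) hx
  rw [fromSpecResidueField_eq hU x hxU, Category.assoc, ← hV.SpecMap_appLE_fromSpec f hU hUV,
    ← Spec.map_comp_assoc, appLE_evaluation]

variable [IsLocallyNoetherian Y] [LocallyOfFiniteType f] [QuasiCompact f]

/-- The good neighbourhood: there every valuation ring at a maximal point has a chart. -/
theorem exists_nhd_chart {V : Y.Opens} (hV : IsAffineOpen V) {y : Y} (hy : y ∈ V)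
    (H : ∀ η : X, (∀ w, w ⤳ η → w = η) → ∀ W : ValuationSubring (X.residueField η),
      IsDiscreteValuationRing W → ∀ g : Spec (CommRingCat.of W) ⟶ Y, g (closedPoint W) = y →
      Spec.map (CommRingCat.ofHom W.subtype) ≫ g = X.fromSpecResidueField η ≫ f →
      ∃ l : Spec (CommRingCat.of W) ⟶ X,
        Spec.map (CommRingCat.ofHom W.subtype) ≫ l = X.fromSpecResidueField η ∧ l ≫ f = g) :
    ∃ O : Y.Opens, y ∈ O ∧ O ≤ V ∧ ∀ (η : X) (_ : ∀ w, w ⤳ η → w = η) (hη : f η ∈ V)
      (W : ValuationSubring (X.residueField η)) (_ : ∀ r, ev f V η hη r ∈ W)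
      (q : PrimeSpectrum Γ(Y, V)) (_ : hV.fromSpec q ∈ O)
      (_ : ∀ r, W.valuation (ev f V η hη r) < 1 → r ∈ q.asIdeal),
      ∃ (U : X.Opens) (_ : IsAffineOpen U) (hηU : η ∈ U), U ≤ f ⁻¹ᵁ V ∧
        ∀ b, X.evaluation U η hηU b ∈ W := by
  classical
  haveI : IsNoetherianRing Γ(Y, V) := IsLocallyNoetherian.component_noetherian ⟨V, hV⟩
  haveI : IsLocallyNoetherian X := LocallyOfFiniteType.isLocallyNoetherian f
  obtain ⟨p, rfl⟩ := hV.range_fromSpec.ge hy
  -- charts
  have hc : IsCompact (f ⁻¹ᵁ V : Set X) :=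
    QuasiCompact.isCompact_preimage (f := f) (V : Set Y) V.2 hV.isCompact
  have hcov : (f ⁻¹ᵁ V : Set X) ⊆
      ⋃ U : {U : X.Opens // IsAffineOpen U ∧ U ≤ f ⁻¹ᵁ V}, (U.1 : Set X) := fun x hx => by
    obtain ⟨U, hU, hxU, hUV⟩ := exists_isAffineOpen_mem_and_subset (x := x) (U := f ⁻¹ᵁ V) hx
    exact Set.mem_iUnion.mpr ⟨⟨U, hU, hUV⟩, hxU⟩
  obtain ⟨S, hS⟩ := hc.elim_finite_subcover _ (fun U => U.1.2) hcov
  have hgen : ∀ U : {U : X.Opens // IsAffineOpen U ∧ U ≤ f ⁻¹ᵁ V}, ∃ G : Finset Γ(X, U.1),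
      ∀ (T : Subring Γ(X, U.1)), (∀ r, f.appLE V U.1 U.2.2 r ∈ T) → (∀ g ∈ G, g ∈ T) → ∀ b, b ∈ T := by
    intro U
    letI := (f.appLE V U.1 U.2.2).hom.toAlgebra
    haveI : Algebra.FiniteType Γ(Y, V) Γ(X, U.1) := f.finiteType_appLE hV U.2.1 U.2.2
    obtain ⟨G, hG⟩ := (Algebra.FiniteType.out : (⊤ : Subalgebra Γ(Y, V) Γ(X, U.1)).FG)
    refine ⟨G, fun T h1 h2 b => ?_⟩
    let T' : Subalgebra Γ(Y, V) Γ(X, U.1) := { T with algebraMap_mem' := h1 }
    exact (Algebra.adjoin_le (R := Γ(Y, V)) (s := (G : Set Γ(X, U.1))) (S := T') h2) (hG.ge (trivial : b ∈ (⊤ : Subalgebra Γ(Y, V) Γ(X, U.1))))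
  choose G hG using hgen
  -- maximal points
  let M : Set X := {η | (∀ w, w ⤳ η → w = η) ∧ f η ∈ V}
  have hM : M.Finite := by
    haveI : IsNoetherian ((f ⁻¹ᵁ V : X.Opens) : Scheme.{u}) :=
      { toIsLocallyNoetherian := inferInstance
        toCompactSpace := isCompact_iff_compactSpace.mp hc }
    have hfin := TopologicalSpace.NoetherianSpace.finite_irreducibleComponents
      (α := ((f ⁻¹ᵁ V : X.Opens) : Scheme.{u}))
    refine Set.Finite.of_finite_image (f := fun η => closure {η}) ?_ ?_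
    · refine ((hfin.image fun Z => closure (Subtype.val '' Z))).subset ?_
      rintro _ ⟨η, ⟨hmax, hη⟩, rfl⟩
      refine ⟨closure {(⟨η, hη⟩ : ((f ⁻¹ᵁ V : X.Opens) : Scheme.{u}))}, ?_, ?_⟩
      · refine ⟨isIrreducible_singleton.closure, fun Z hZ hle => ?_⟩
        have hg := hZ.isGenericPoint_genericPoint_closure
        have hsp : hZ.genericPoint ⤳ ⟨η, hη⟩ :=
          hg.specializes (subset_closure (hle (subset_closure rfl)))
        have : hZ.genericPoint = ⟨η, hη⟩ :=
          Subtype.ext (hmax _ (hsp.map continuous_subtype_val))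
        rw [this] at hg
        exact subset_closure.trans hg.def.symm.subset
      · refine le_antisymm (closure_minimal ?_ isClosed_closure) (closure_mono ?_)
        · exact (image_closure_subset_closure_image continuous_subtype_val).trans (by simp)
        · exact Set.singleton_subset_iff.mpr ⟨_, subset_closure rfl, rfl⟩
    · intro η _ η' _ h
      exact (inseparable_iff_closure_eq.mpr h).eq
  -- choices of bad generators
  let c (η : M) (γ : ∀ U : {U : S // η.1 ∈ U.1.1}, {g : ↥(G U.1.1) // X.evaluation _ η.1 U.2 g.1 ≠ 0})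
      (U : {U : S // η.1 ∈ U.1.1}) : X.residueField η.1 := X.evaluation _ η.1 U.2 (γ U).1.1
  have key : ∀ η γ, ∃ r ∉ p.asIdeal, ∀ W : ValuationSubring (X.residueField η.1),
      (∀ a, ev f V η.1 η.2.2 a ∈ W) → (∀ U, c η γ U ∉ W) → W.valuation (ev f V η.1 η.2.2 r) < 1 := by
    intro η γ
    have hne : ∃ U, U ∈ S ∧ η.1 ∈ U.1 := by
      have := hS η.2.2
      simp only [Set.mem_iUnion, exists_prop] at this
      obtain ⟨U, hU, hηU⟩ := this
      exact ⟨U, hU, hηU⟩
    obtain ⟨U₀, hU₀, hηU₀⟩ := hne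
    haveI : Nonempty {U : S // η.1 ∈ U.1.1} := ⟨⟨⟨U₀, hU₀⟩, hηU₀⟩⟩
    have hfgU : ∀ z : X.residueField η.1, z ∈ Subfield.closure (Set.range (ev f V η.1 η.2.2).hom ∪
        (((G U₀).image (X.evaluation _ η.1 hηU₀) : Finset (X.residueField η.1)) : Set (X.residueField η.1))) := fun z => by
      refine Subfield.closure_le.mpr ?_ (mem_closure_evaluation U₀.2.1 η.1 hηU₀ z)
      rintro _ ⟨b, rfl⟩
      refine hG U₀ ((Subfield.closure _).toSubring.comap (X.evaluation U₀.1 η.1 hηU₀).hom)
        (fun r => ?_) (fun g hg => ?_) b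
      · refine Subfield.subset_closure (Or.inl ⟨r, ?_⟩)
        exact (congrArg (fun k => k.hom r) (appLE_evaluation f V U₀.1 U₀.2.2 η.1 hηU₀)).symm
      · exact Subfield.subset_closure (Or.inr (Finset.mem_coe.mpr (Finset.mem_image_of_mem _ hg)))
    rcases exists_notMem_or_dvr p.asIdeal (ev f V η.1 η.2.2).hom ⟨_, hfgU⟩ (c η γ) (fun U => (γ U).2) with
      h | ⟨W, hWd, hW, hWp, hWc⟩
    · exact h
    · exfalso
      let φ : Γ(Y, V) ⟶ CommRingCat.of W :=
        CommRingCat.ofHom ((ev f V η.1 η.2.2).hom.codRestrict W.toSubring hW)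
      obtain ⟨l, hl, hlf⟩ := H η.1 η.2.1 W hWd (Spec.map φ ≫ hV.fromSpec) (by
        show hV.fromSpec _ = hV.fromSpec p
        congr 1
        refine PrimeSpectrum.ext (Ideal.ext fun r => ?_)
        show φ r ∈ maximalIdeal W ↔ r ∈ p.asIdeal
        rw [← hWp r, W.valuation_lt_one_iff]
        rfl) (by
        rw [fromSpecResidueField_comp f hV η.1 η.2.2, ← Spec.map_comp_assoc]
        rfl)
      -- `l` lands in one of the charts
      have hfl : f (l (closedPoint W)) ∈ V := by
        rw [← Scheme.Hom.comp_apply, hlf]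
        exact hV.range_fromSpec.le ⟨_, rfl⟩
      have := hS hfl
      simp only [Set.mem_iUnion, exists_prop] at this
      obtain ⟨U, hU, hlU⟩ := this
      have hηU : η.1 ∈ U.1 := by
        have := RatMapExt.range_subset_of_closedPoint l U.1 hlU ⟨Spec.map (CommRingCat.ofHom W.subtype)
          (closedPoint (X.residueField η.1)), rfl⟩
        rwa [← Scheme.Hom.comp_apply, hl, Scheme.fromSpecResidueField_apply] at this
      obtain ⟨ψ, rfl⟩ := exists_factor l U.2.1 hlU
      rw [fromSpecResidueField_eq U.2.1 η.1 hηU, ← Spec.map_comp_assoc] at hl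
      have e := eq_of_map_fromSpec _ hl
      refine hWc ⟨⟨U, hU⟩, hηU⟩ ?_
      have h := congrArg (fun k => k.hom (γ ⟨⟨U, hU⟩, hηU⟩).1.1) e
      show X.evaluation _ η.1 hηU _ ∈ W
      exact h ▸ (ψ _).2
  choose r hrp hr using key
  haveI : Finite M := hM.to_subtype
  let O' : Set (PrimeSpectrum Γ(Y, V)) :=
    ⋂ η : M, ⋂ γ, (PrimeSpectrum.basicOpen (r η γ) : Set (PrimeSpectrum Γ(Y, V)))
  have hO' : IsOpen O' :=
    isOpen_iInter_of_finite fun η => isOpen_iInter_of_finite fun γ => PrimeSpectrum.isOpen_basicOpen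
  refine ⟨⟨hV.fromSpec '' O', hV.fromSpec.isOpenEmbedding.isOpenMap _ hO'⟩,
    ⟨p, Set.mem_iInter.mpr fun η => Set.mem_iInter.mpr fun γ => hrp η γ, rfl⟩, ?_, ?_⟩
  · rintro _ ⟨q, -, rfl⟩
    exact hV.range_fromSpec.le ⟨q, rfl⟩
  intro η hmax hη W hW q hq hWq
  by_contra hno
  push Not at hno
  obtain ⟨q', hq', hqq'⟩ := hq
  obtain rfl : q' = q := hV.fromSpec.isOpenEmbedding.injective hqq'
  have hbad : ∀ U : {U : S // η ∈ U.1.1}, ∃ g : ↥(G U.1.1), X.evaluation _ η U.2 g.1 ∉ W := by
    intro U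
    obtain ⟨b, hb⟩ := hno U.1.1.1 U.1.1.2.1 U.2 U.1.1.2.2
    by_contra hall
    push Not at hall
    refine hb (hG U.1.1 (W.toSubring.comap (X.evaluation _ η U.2).hom) (fun a => ?_)
      (fun g hg => hall ⟨g, hg⟩) b)
    have := hW a
    rwa [← appLE_evaluation f V U.1.1.1 U.1.1.2.2 η U.2] at this
  choose g hg using hbad
  let η' : M := ⟨η, hmax, hη⟩
  let γ : ∀ U : {U : S // η'.1 ∈ U.1.1}, {g : ↥(G U.1.1) // X.evaluation _ η'.1 U.2 g.1 ≠ 0} :=
    fun U => ⟨g U, fun h0 => hg U (by rw [h0]; exact zero_mem W)⟩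
  exact Set.mem_iInter.mp (Set.mem_iInter.mp hq' η') γ (hWq _ (hr η' γ W hW hg))

/-- Properness over a neighbourhood from discrete valuation rings at the maximal points. -/
theorem exists_isProper_nhd [IsSeparated f] (y : Y)
    (H : ∀ η : X, (∀ w, w ⤳ η → w = η) → ∀ W : ValuationSubring (X.residueField η),
      IsDiscreteValuationRing W → ∀ g : Spec (CommRingCat.of W) ⟶ Y, g (closedPoint W) = y →
      Spec.map (CommRingCat.ofHom W.subtype) ≫ g = X.fromSpecResidueField η ≫ f →
      ∃ l : Spec (CommRingCat.of W) ⟶ X,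
        Spec.map (CommRingCat.ofHom W.subtype) ≫ l = X.fromSpecResidueField η ∧ l ≫ f = g) :
    ∃ O : Y.Opens, y ∈ O ∧ IsProper (f ∣_ O) := by
  obtain ⟨V, hV, hyV, -⟩ := exists_isAffineOpen_mem_and_subset (x := y) (U := ⊤) trivial
  obtain ⟨O, hyO, hOV, hO⟩ := exists_nhd_chart f hV hyV H
  refine ⟨O, hyO, ?_⟩
  suffices ValuativeCriterion.Existence (f ∣_ O) by
    haveI := UniversallyClosed.of_valuativeCriterion (f ∣_ O) this
    exact { toIsSeparated := inferInstance, toUniversallyClosed := this }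
  intro S
  -- the square composed into `X`
  let i₁ := S.i₁ ≫ (f ⁻¹ᵁ O).ι
  let i₂ := S.i₂ ≫ O.ι
  have w : i₁ ≫ f = Spec.map (CommRingCat.ofHom (algebraMap S.R S.K)) ≫ i₂ := by
    simp only [i₁, i₂]
    rw [Category.assoc, ← morphismRestrict_ι, ← Category.assoc, S.commSq.w, Category.assoc]
  have hi₂ : i₂ (closedPoint S.R) ∈ O := (S.i₂ (closedPoint S.R)).2
  suffices ∃ l : Spec (CommRingCat.of S.R) ⟶ X,
      Spec.map (CommRingCat.ofHom (algebraMap S.R S.K)) ≫ l = i₁ ∧ l ≫ f = i₂ by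
    obtain ⟨l, hl₁, hl₂⟩ := this
    have hpb := isPullback_morphismRestrict f O
    refine ⟨⟨hpb.lift S.i₂ l hl₂.symm, ?_, hpb.lift_fst _ _ _⟩⟩
    apply hpb.hom_ext
    · rw [Category.assoc, hpb.lift_fst, S.commSq.w]
    · rw [Category.assoc, hpb.lift_snd, hl₁]
  obtain ⟨φ, hφ⟩ := exists_factor i₂ hV (hOV hi₂)
  obtain ⟨x, e, hxe⟩ : ∃ (x : X) (e : X.residueField x ⟶ CommRingCat.of S.K),
      Spec.map e ≫ X.fromSpecResidueField x = i₁ :=
    ⟨_, _, Scheme.descResidueField_stalkClosedPointTo_fromSpecResidueField S.K X i₁⟩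
  have hx : f x ∈ V := by
    have h1 : f x = i₂ (Spec.map (CommRingCat.ofHom (algebraMap S.R S.K)) (closedPoint S.K)) := by
      rw [← Scheme.Hom.comp_apply, ← w, ← hxe, Scheme.Hom.comp_apply, Scheme.Hom.comp_apply,
        Scheme.fromSpecResidueField_apply]
    rw [h1]
    exact hOV (RatMapExt.range_subset_of_closedPoint i₂ O hi₂ ⟨_, rfl⟩)
  have hcompat : φ ≫ CommRingCat.ofHom (algebraMap S.R S.K) = ev f V x hx ≫ e := by
    apply eq_of_map_fromSpec hV
    rw [Spec.map_comp, Spec.map_comp, Category.assoc, Category.assoc, hφ,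
      ← fromSpecResidueField_comp f hV x hx, reassoc_of% hxe, w]
  let V₀ : ValuationSubring (X.residueField x) :=
    { (algebraMap S.R S.K).range.comap e.hom with
      mem_or_inv_mem' := fun a => by
        rcases ValuationRing.isInteger_or_isInteger S.R (e.hom a) with ⟨t, ht⟩ | ⟨t, ht⟩
        · exact Or.inl ⟨t, ht⟩
        · exact Or.inr ⟨t, ht.trans (map_inv₀ e.hom a).symm⟩ }
  have hV₀ : ∀ a, a ∈ V₀ ↔ ∃ t, algebraMap S.R S.K t = e.hom a := fun a => Iff.rfl
  -- a maximal point above `x`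
  obtain ⟨η, hηx, hmax⟩ : ∃ η, η ⤳ x ∧ ∀ w, w ⤳ η → w = η := by
    have hirr := isIrreducible_irreducibleComponent (x := x)
    have hg : IsGenericPoint hirr.genericPoint (irreducibleComponent x) :=
      hirr.isGenericPoint_genericPoint isClosed_irreducibleComponent
    refine ⟨hirr.genericPoint, hg.specializes mem_irreducibleComponent, fun w hw => ?_⟩
    have hsub : irreducibleComponent x ⊆ closure {w} :=
      hg.def.symm.subset.trans (specializes_iff_closure_subset.mp hw)
    have : closure {w} = irreducibleComponent x :=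
      eq_irreducibleComponent isIrreducible_singleton.closure.2 hsub
    exact (show IsGenericPoint w (irreducibleComponent x) from this).eq hg
  have hη : f η ∈ V := (hηx.map f.continuous).mem_open V.2 hx
  let σ : X.presheaf.stalk x ⟶ X.residueField η := X.presheaf.stalkSpecializes hηx ≫ X.residue η
  obtain ⟨W', hW'σ, hW'loc⟩ := exists_factor_valuationRing σ.hom
  haveI := hW'loc
  let ψ : X.presheaf.stalk x →+* W' := σ.hom.codRestrict W'.toSubring hW'σ
  haveI : IsLocalHom ψ := hW'loc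
  let j : X.residueField x →+* ResidueField W' := ResidueField.map ψ
  obtain ⟨W₁, hW₁⟩ := exists_extend j V₀
  obtain ⟨W, hW⟩ := exists_composite W' W₁
  have hgermσ : ∀ (U : X.Opens) (hxU : x ∈ U),
      X.presheaf.germ U x hxU ≫ σ = X.evaluation U η (hηx.mem_open U.2 hxU) := fun U hxU => by
    simp [σ, Scheme.evaluation]
  have hevW' : ∀ a, ∃ h : ev f V η hη a ∈ W',
      residue W' ⟨_, h⟩ = j (ev f V x hx a) := fun a => by
    have h1 := congrArg (fun k => k.hom (f.app V a)) (hgermσ (f ⁻¹ᵁ V) hx)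
    refine ⟨h1 ▸ hW'σ _, ?_⟩
    show residue W' _ = residue W' (ψ (X.presheaf.germ _ x hx (f.app V a)))
    exact congrArg _ (Subtype.ext h1.symm)
  have hevW : ∀ a, ev f V η hη a ∈ W := fun a => by
    obtain ⟨h, hres⟩ := hevW' a
    refine (hW _).mpr ⟨h, ?_⟩
    rw [hres, hW₁, hV₀]
    exact ⟨φ a, congrArg (fun k => k.hom a) hcompat⟩
  let q : PrimeSpectrum Γ(Y, V) := Spec.map φ (closedPoint S.R)
  have hq : hV.fromSpec q ∈ O := by
    rw [← hφ] at hi₂
    exact hi₂
  obtain ⟨U, hU, hηU, hUV, hbW⟩ := hO η hmax hη W hevW q hq (fun a ha => by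
    show φ a ∈ maximalIdeal S.R
    by_contra hu
    rw [mem_maximalIdeal, mem_nonunits_iff, not_not] at hu
    obtain ⟨v, hv⟩ := hu.exists_right_inv
    have h1 : algebraMap S.R S.K (φ a) = e.hom (ev f V x hx a) := congrArg (fun k => k.hom a) hcompat
    have hne : ev f V x hx a ≠ 0 := fun h0 => by
      rw [h0, map_zero] at h1
      have := congrArg (algebraMap S.R S.K) hv
      rw [map_mul, h1, zero_mul, map_one] at this
      exact zero_ne_one this
    obtain ⟨h, hres⟩ := hevW' a
    have hne' : residue W' ⟨_, h⟩ ≠ 0 := by rw [hres]; exact (map_ne_zero j).mpr hne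
    have hevne : ev f V η hη a ≠ 0 := fun h0 => hne' (by
      rw [show (⟨_, h⟩ : W') = 0 from Subtype.ext h0, map_zero])
    obtain ⟨v', hv'⟩ := (not_not.mp (mem_nonunits_iff.not.mp (fun hm => hne' ((residue_eq_zero_iff _).mpr hm)))
      : IsUnit (⟨_, h⟩ : W')).exists_right_inv
    have hv'' : (ev f V η hη a)⁻¹ = (v' : X.residueField η) :=
      inv_eq_of_mul_eq_one_right (congrArg Subtype.val hv')
    have hmem : (ev f V η hη a)⁻¹ ∈ W := by
      rw [hv'']
      refine (hW _).mpr ⟨v'.2, ?_⟩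
      have : residue W' v' = (j (ev f V x hx a))⁻¹ := by
        rw [← hres]
        exact eq_inv_of_mul_eq_one_right (by rw [← map_mul, hv', map_one])
      rw [show (⟨(v' : X.residueField η), v'.2⟩ : W') = v' from rfl, this, ← map_inv₀ j, hW₁, hV₀]
      exact ⟨v, by rw [map_inv₀, ← h1]; exact eq_inv_of_mul_eq_one_right (by rw [← map_mul, hv, map_one])⟩
    have := mul_lt_one_of_lt_of_le ha ((W.valuation_le_one_iff _).mpr hmem)
    rw [← map_mul, mul_inv_cancel₀ hevne, map_one] at this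
    exact this.false)
  -- `x` lies in the chart
  have hWW' : ∀ a ∈ W, a ∈ W' := fun a ha => ((hW a).mp ha).1
  let α : Γ(X, U) ⟶ CommRingCat.of W' := CommRingCat.ofHom
    ((X.evaluation U η hηU).hom.codRestrict W'.toSubring fun b => hWW' _ (hbW b))
  let ι' : CommRingCat.of W' ⟶ X.residueField η := CommRingCat.ofHom W'.subtype
  have hαι : α ≫ ι' = X.evaluation U η hηU := rfl
  have hψι : CommRingCat.ofHom ψ ≫ ι' = σ := rfl
  let l₁ := Spec.map α ≫ hU.fromSpec
  let l₂ := Spec.map (CommRingCat.ofHom ψ) ≫ X.fromSpecStalk x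
  have g₁ : Spec.map ι' ≫ l₁ = X.fromSpecResidueField η := by
    rw [← Spec.map_comp_assoc, hαι, fromSpecResidueField_eq hU η hηU]
  have g₂ : Spec.map ι' ≫ l₂ = X.fromSpecResidueField η := by
    rw [← Spec.map_comp_assoc, hψι, Spec.map_comp, Category.assoc,
      Scheme.SpecMap_stalkSpecializes_fromSpecStalk]
    rfl
  have hx₂ : l₂ (closedPoint W') = x := by
    show X.fromSpecStalk x _ = x
    exact (congrArg (X.fromSpecStalk x) (comap_closedPoint ψ)).trans X.fromSpecStalk_closedPoint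
  have hfl₂ : f (l₂ (closedPoint W')) ∈ V := hx₂ ▸ hx
  have hbase : l₁ ≫ f = l₂ ≫ f := by
    obtain ⟨φ₁, hφ₁⟩ := exists_factor (l₁ ≫ f) hV (hUV (by
      exact hU.range_fromSpec.le ⟨_, rfl⟩))
    obtain ⟨φ₂, hφ₂⟩ := exists_factor (l₂ ≫ f) hV hfl₂
    have h12 : φ₁ ≫ ι' = φ₂ ≫ ι' := by
      apply eq_of_map_fromSpec hV
      rw [Spec.map_comp, Spec.map_comp, Category.assoc, Category.assoc, hφ₁, hφ₂,
        reassoc_of% g₁, reassoc_of% g₂]
    rw [← hφ₁, ← hφ₂, show φ₁ = φ₂ from CommRingCat.hom_ext (RingHom.ext fun a => Subtype.ext (congrArg (fun k => k.hom a) h12 :))]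
  have hl : l₁ = l₂ := by
    let sq : ValuativeCommSq f :=
      { R := W', K := X.residueField η, i₁ := X.fromSpecResidueField η, i₂ := l₁ ≫ f
        commSq := ⟨(congrArg (· ≫ f) g₁).symm.trans (Category.assoc _ _ _)⟩ }
    haveI := IsSeparated.valuativeCriterion f sq
    exact congrArg CommSq.LiftStruct.l
      (Subsingleton.elim (α := sq.commSq.LiftStruct) ⟨l₁, g₁, rfl⟩ ⟨l₂, g₂, hbase.symm⟩)
  have hxU : x ∈ U := by
    rw [← hx₂, ← hl]
    exact hU.range_fromSpec.le ⟨_, rfl⟩
  have hbV₀ : ∀ b, ∃ t, algebraMap S.R S.K t = e.hom (X.evaluation U x hxU b) := fun b => by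
    rw [← hV₀, ← hW₁]
    obtain ⟨h, hres⟩ := (hW _).mp (hbW b)
    have e1 : (ψ (X.presheaf.germ U x hxU b) : X.residueField η) = X.evaluation U η hηU b :=
      congrArg (fun k => k.hom b) (hgermσ U hxU)
    show residue W' (ψ (X.presheaf.germ U x hxU b)) ∈ W₁
    rwa [show ψ (X.presheaf.germ U x hxU b) = ⟨_, h⟩ from Subtype.ext e1]
  let er := RingEquiv.ofBijective (algebraMap S.R S.K).rangeRestrict
    ⟨fun a b hab => IsFractionRing.injective S.R S.K (congrArg Subtype.val hab),
      (algebraMap S.R S.K).rangeRestrict_surjective⟩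
  let χ : Γ(X, U) ⟶ CommRingCat.of S.R := CommRingCat.ofHom (er.symm.toRingHom.comp
    ((e.hom.comp (X.evaluation U x hxU).hom).codRestrict (algebraMap S.R S.K).range hbV₀))
  have hχ : χ ≫ CommRingCat.ofHom (algebraMap S.R S.K) = X.evaluation U x hxU ≫ e := by
    ext b
    exact congrArg Subtype.val (er.apply_symm_apply _)
  refine ⟨Spec.map χ ≫ hU.fromSpec, ?_, ?_⟩
  · rw [← Spec.map_comp_assoc, hχ, Spec.map_comp, Category.assoc, ← fromSpecResidueField_eq hU x hxU, hxe]
  · rw [Category.assoc, ← hV.SpecMap_appLE_fromSpec f hU hUV, ← Spec.map_comp_assoc, ← hφ]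
    congr 2
    ext a
    refine IsFractionRing.injective S.R S.K ?_
    have h1 := congrArg (fun k => k.hom (f.appLE V U hUV a)) hχ
    have h2 := congrArg (fun k => k.hom a) hcompat
    have h3 := congrArg (fun k => k.hom a) (appLE_evaluation f V U hUV x hxU)
    exact h1.trans ((congrArg e.hom h3).trans h2.symm)

end Scheme

end Groth.Agent.DVRProper
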